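import Cfsg.Agent.H792.OT.Tools
import Cfsg.Agent.H214.OT.Env

/-!
# S2539, part 4: the root lemmas and the abelian row for `q = 16` (helper792)

`RL X` : the root lemmas of the plan S2539_end_l used in the non-Sylow case.
-/

set_option autoImplicit false

open Subgroup Cfsg.Agent.H712.OT Cfsg.Agent.H214.OT
open scoped Pointwise commutatorElement

namespace Cfsg.Agent.H792.OT

universe u v w

variable {K : Type u} [Field K] [Fintype K] {Y : Type v} [Group Y] {T M : Subgroup Y}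
  {Φ : Type w} {Ψ : Set Φ} {P : Φ → Φ → ℤ}

/-- the root lemmas used in the non-Sylow case -/
structure RL (X : Ctx K Y T M Φ Ψ P) : Prop where
  faithful : ∀ s : ℕ, s.Prime → (5 ≤ s ∨ (s = 3 ∧ A3 X)) → s ∣ Fintype.card K - 1 → ∀ m ∈ M,
    (∀ t ∈ T, t ^ s = 1 → m * t = t * m) → m ∈ T
  quad : 3 ∣ Fintype.card K - 1 → ∀ x : M, (x : Y) ∉ T → (x : Y) ^ 3 ∈ T →
    (∀ t ∈ T, t ^ 3 = 1 → ⁅⁅t, (x : Y)⁆, (x : Y)⁆ = 1) → Nu X x
  nine : 9 ∣ Fintype.card K - 1 → ∀ x : M, (x : Y) ^ 3 ∈ T →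
    (∀ t ∈ T, t ^ 9 = 1 → ⁅⁅t, (x : Y)⁆, (x : Y)⁆ = 1) → (x : Y) ∈ T
  nocomm : A3 X → 3 ∣ Fintype.card K - 1 → ∀ x g : M, Nu X x → (x : Y) ^ 3 ∈ T → ∀ p : ℕ, p.Prime → 5 ≤ p →
    (g : Y) ^ p ∈ T → ⁅(x : Y), (g : Y)⁆ ∈ T → (∀ t ∈ T, t ^ 3 = 1 → ⁅⁅t, (g : Y)⁆, (x : Y)⁆ = 1) → (g : Y) ∈ T
  cyc : ∀ x y : M, ⁅(x : Y), (y : Y)⁆ ∈ T → (x : Y) ^ 3 ∈ T → (y : Y) ^ 3 ∈ T → Nu X x → Nu X y → Nu X (x * y) →
    Nu X (x * y ^ 2) → False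
  nle : A3 X → 3 ∣ Fintype.card K - 1 → ∀ x : M, Nu X x → (x : Y) ^ 3 ∈ T → ∀ R : Subgroup Y,
    (∀ t ∈ T, t ^ 3 = 1 → ⁅t, (x : Y)⁆ ∈ R) → 9 ≤ Nat.card R
  cube : A3 X → ∀ s : ℕ, s.Prime → 3 ≤ s → s ∣ Fintype.card K - 1 → s ^ 3 ≤ tor X s
  exponent : ∀ t ∈ T, t ^ (Fintype.card K - 1) = 1

/-- `tor X s` is the order of the `s`-torsion -/
theorem tor_eq (X : Ctx K Y T M Φ Ψ P) (hT : ∀ a ∈ T, ∀ b ∈ T, a * b = b * a) (s : ℕ) :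
    tor X s = Nat.card (tors T hT s) := rfl

section
variable {L : Subgroup Y}

/-- the group `K₁` of the abelian row -/
def K1 (X : Ctx K Y T M Φ Ψ P) (hL : L.Normal) : Subgroup Y where
  carrier := {m | m ∈ M ∧ (∀ r ∈ T, r ^ 3 = 1 → r ∈ L → m * r = r * m) ∧ ∀ t ∈ T, t ^ 3 = 1 → ⁅t, m⁆ ∈ L}
  mul_mem' := by
    rintro m n ⟨hm, hm1, hm2⟩ ⟨hn, hn1, hn2⟩
    refine ⟨M.mul_mem hm hn, fun r hr hr3 hrL => ?_, fun t ht ht3 => ?_⟩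
    · rw [mul_assoc, hn1 r hr hr3 hrL, ← mul_assoc, hm1 r hr hr3 hrL, mul_assoc]
    · have h : ⁅t, m * n⁆ = ⁅t, m⁆ * (m * ⁅t, n⁆ * m⁻¹) := by
        simp only [commutatorElement_def]
        group
      rw [h]
      exact L.mul_mem (hm2 t ht ht3) (hL.conj_mem _ (hn2 t ht ht3) m)
  one_mem' := ⟨M.one_mem, fun r _ _ _ => by rw [one_mul, mul_one], fun t _ _ => by
    rw [commutatorElement_one_right]
    exact L.one_mem⟩
  inv_mem' := by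
    rintro m ⟨hm, hm1, hm2⟩
    refine ⟨M.inv_mem hm, fun r hr hr3 hrL => ?_, fun t ht ht3 => ?_⟩
    · have h : Commute m r := hm1 r hr hr3 hrL
      exact h.inv_left.eq
    · have h : ⁅t, m⁻¹⁆ = m⁻¹ * ⁅t, m⁆⁻¹ * m⁻¹⁻¹ := by
        simp only [commutatorElement_def]
        group
      rw [h]
      exact hL.conj_mem _ (L.inv_mem (hm2 t ht ht3)) m⁻¹

variable (X : Ctx K Y T M Φ Ψ P) (hL : L.Normal)

theorem mem_K1 {m : Y} : m ∈ K1 X hL ↔ m ∈ M ∧ (∀ r ∈ T, r ^ 3 = 1 → r ∈ L → m * r = r * m) ∧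
    ∀ t ∈ T, t ^ 3 = 1 → ⁅t, m⁆ ∈ L := Iff.rfl

theorem T_le_K1 : T ≤ K1 X hL := fun t ht => ⟨X.TM ht, fun r hr _ _ => X.comm t ht r hr, fun s hs _ => by
  have : ⁅s, t⁆ = 1 := commutatorElement_eq_one_iff_mul_comm.2 (X.comm s hs t ht)
  rw [this]
  exact L.one_mem⟩

theorem K1_conj {m g : Y} (hm : m ∈ K1 X hL) (hg : g ∈ M) : g * m * g⁻¹ ∈ K1 X hL := by
  obtain ⟨hm, hm1, hm2⟩ := hm
  refine ⟨M.mul_mem (M.mul_mem hg hm) (M.inv_mem hg), fun r hr hr3 hrL => ?_, fun t ht ht3 => ?_⟩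
  · have h1 : g⁻¹ * r * g⁻¹⁻¹ ∈ T := X.conj_mem _ (M.inv_mem hg) r hr
    have h2 := hm1 _ h1 (by rw [conj_pow, hr3, mul_one, mul_inv_cancel]) (hL.conj_mem r hrL g⁻¹)
    rw [inv_inv] at h2
    calc g * m * g⁻¹ * r = g * (m * (g⁻¹ * r * g)) * g⁻¹ := by group
      _ = g * ((g⁻¹ * r * g) * m) * g⁻¹ := by rw [h2]
      _ = r * (g * m * g⁻¹) := by group
  · have h1 : g⁻¹ * t * g⁻¹⁻¹ ∈ T := X.conj_mem _ (M.inv_mem hg) t ht
    have h2 := hm2 _ h1 (by rw [conj_pow, ht3, mul_one, mul_inv_cancel])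
    have h3 : ⁅t, g * m * g⁻¹⁆ = g * ⁅g⁻¹ * t * g⁻¹⁻¹, m⁆ * g⁻¹ := by
      simp only [commutatorElement_def]
      group
    rw [h3]
    exact hL.conj_mem _ h2 g

/-- the commutators `[t, m]`, `m ∈ K₁`, `t ^ 3 = 1`, commute with `K₁` -/
theorem K1_comm {m n : Y} (hm : m ∈ K1 X hL) (hn : n ∈ K1 X hL) {t : Y} (ht : t ∈ T) (ht3 : t ^ 3 = 1) :
    n * ⁅t, m⁆ = ⁅t, m⁆ * n := by
  have h1 : ⁅t, m⁆ ∈ T := by
    rw [commutatorElement_def, mul_assoc, mul_assoc, ← mul_assoc m]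
    exact T.mul_mem ht (X.conj_mem m hm.1 _ (T.inv_mem ht))
  refine hn.2.1 _ h1 ?_ (hm.2.2 t ht ht3)
  rw [comm_pow X.comm X.conj_mem ht hm.1, ht3, commutatorElement_one_left]

theorem K1_nu (H : RL X) (hd : 3 ∣ Fintype.card K - 1) {m : M} (hm : (m : Y) ∈ K1 X hL) (hmT : (m : Y) ∉ T)
    (hm3 : (m : Y) ^ 3 ∈ T) : Nu X m := by
  refine H.quad hd m hmT hm3 fun t ht ht3 => ?_
  rw [commutatorElement_eq_one_iff_mul_comm]
  exact (K1_comm X hL hm hm ht ht3).symm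

/-- elements of `K₁` of prime order `p ≠ 3` modulo `T` lie in `T` -/
theorem K1_prime (H : RL X) (hA : A3 X) (hd : 3 ∣ Fintype.card K - 1) {m : Y} (hm : m ∈ K1 X hL) {p : ℕ}
    (hp : p.Prime) (hp3 : p ≠ 3) (hmp : m ^ p ∈ T) : m ∈ T := by
  refine H.faithful 3 Nat.prime_three (Or.inr ⟨rfl, hA⟩) hd m hm.1 fun t ht ht3 => ?_
  -- `m t⁻¹ m⁻¹ = t⁻¹ c`
  set c := ⁅t, m⁆ with hc
  have hcm : m * c = c * m := K1_comm X hL hm hm ht ht3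
  have hcT : c ∈ T := by
    rw [hc, commutatorElement_def, mul_assoc, mul_assoc, ← mul_assoc m]
    exact T.mul_mem ht (X.conj_mem m hm.1 _ (T.inv_mem ht))
  have hc3 : c ^ 3 = 1 := by
    rw [hc, comm_pow X.comm X.conj_mem ht hm.1, ht3, commutatorElement_one_left]
  have h1 : m * t⁻¹ * m⁻¹ = t⁻¹ * c := by
    rw [hc, commutatorElement_def]
    group
  have h2 : ∀ k : ℕ, m ^ k * t⁻¹ * (m ^ k)⁻¹ = t⁻¹ * c ^ k := by
    intro k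
    induction k with
    | zero => simp
    | succ k ih =>
      have h3 : Commute m (c ^ k) := Commute.pow_right hcm k
      calc m ^ (k + 1) * t⁻¹ * (m ^ (k + 1))⁻¹ = m * (m ^ k * t⁻¹ * (m ^ k)⁻¹) * m⁻¹ := by
            rw [pow_succ']
            group
        _ = (m * t⁻¹ * m⁻¹) * (m * c ^ k * m⁻¹) := by rw [ih]; group
        _ = t⁻¹ * c * c ^ k := by rw [h1, h3.eq, mul_inv_cancel_right]
        _ = t⁻¹ * c ^ (k + 1) := by rw [pow_succ', mul_assoc]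
  have h3 := h2 p
  rw [X.comm _ hmp _ (T.inv_mem ht), mul_inv_cancel_right] at h3
  have h4 : c ^ p = 1 := by
    have := h3.symm
    rwa [mul_eq_left] at this
  have h5 : c = 1 := by
    have h6 : orderOf c ∣ 3 := orderOf_dvd_of_pow_eq_one hc3
    have h7 : orderOf c ∣ p := orderOf_dvd_of_pow_eq_one h4
    have h8 : (3 : ℕ).Coprime p := (Nat.coprime_primes Nat.prime_three hp).2 (Ne.symm hp3)
    exact orderOf_eq_one_iff.1 (Nat.eq_one_of_dvd_one (h8 ▸ Nat.dvd_gcd h6 h7))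
  rw [hc, commutatorElement_eq_one_iff_mul_comm] at h5
  exact h5.symm

end

end Cfsg.Agent.H792.OT
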