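import Cfsg.Agent.H792.FF
import Cfsg.Agent.S0000

/-!
# The rows of the theorem of Flores and Foote, `p = 3`, in refined form (helper792)
-/

set_option autoImplicit false

namespace Cfsg.Agent.H792.OT

open Subgroup Cfsg Cfsg.Agent.H749

universe u

/-- `G₂(q)`, `3 ∤ q`, `9 ∣ q² - 1` -/
def GNine (G : Type u) [Group G] : Prop :=
  ∃ (F : Type) (_ : Field F) (_ : Fintype F), (3 : F) ≠ 0 ∧ 9 ∣ Nat.card F ^ 2 - 1 ∧ Nonempty (G ≃* ↥(Cfsg.Lie.G2 F))

/-- `G₂(q)`, `3 ∤ q`, `9 ∤ q² - 1` -/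
def GThree (G : Type u) [Group G] : Prop :=
  ∃ (F : Type) (_ : Field F) (_ : Fintype F), 3 ≤ Fintype.card F ∧ ¬ 3 ∣ Fintype.card F ∧
    ¬ 9 ∣ Fintype.card F ^ 2 - 1 ∧ Nonempty (G ≃* ↥(Cfsg.Lie.chevG2.group F))

/-- the refined outcome for `p = 3` -/
def Res3 (G : Type u) [Group G] : Prop :=
  H794.Full 3 G ∨ H794.TI 3 G ∨ (∀ S : Sylow 3 G, IsMulCommutative (S : Subgroup G)) ∨ GNine G ∨ GThree G ∨
    Spor.IsoJ2 G ∨ Spor.IsoJ3 G

section
variable [hp : Fact (Nat.Prime 3)] {G : Type u} [Group G] [Finite G]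

theorem res3_of_fullP (h : FullP 3 G) : Res3 G := Or.inl (SpTool.full_of_fullP h)

theorem res3_of_ab (h : AbelP 3 G) : Res3 G :=
  Or.inr (Or.inr (Or.inl fun S => ⟨⟨fun a b => Subtype.ext (h S S.isPGroup' a a.2 b b.2)⟩⟩))

theorem res3_of_dich (h : Dich 3 G) : Res3 G := by
  rcases h with h | h
  · exact res3_of_fullP h
  · exact res3_of_ab h

theorem res3_of_out (h : SpAll.Out 3 G) : Res3 G := by
  rcases h with h | ⟨h, -⟩ | ⟨-, h, -⟩ | h
  · exact res3_of_fullP h
  · rcases h with ⟨-, h⟩ | ⟨h, -⟩ | ⟨h, -⟩ | ⟨h, -⟩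
    · exact Or.inr (Or.inr (Or.inr (Or.inr (Or.inr (Or.inl h)))))
    · exact absurd h (by norm_num)
    · exact absurd h (by norm_num)
    · exact absurd h (by norm_num)
  · exact Or.inr (Or.inr (Or.inr (Or.inr (Or.inr (Or.inr h)))))
  · exact Or.inr (Or.inr (Or.inl h))

theorem res3_of_char [IsSimpleGroup G] (hna : ¬ IsMulCommutative G) (h : IsLieTypeChar 3 G) : Res3 G := by
  rcases H794.DefClosed.full_or_ti (by norm_num) hna h with h | h
  · exact Or.inl h
  · exact Or.inr (Or.inl h)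

theorem res3_exc [IsSimpleGroup G] (hna : ¬ IsMulCommutative G) (h : IsExceptionalLieType G) : Res3 G := by
  rcases H629.ExcFinal.exc_three h with h | h | h | h
  · exact res3_of_fullP h
  · exact res3_of_char hna (FF.isLieTypeChar_of_excChar h)
  · exact res3_of_fullP (SpTool.fullP_of_card fun h9 =>
      Omega.EH3.Rank1.not_three_dvd h ((by norm_num : (3 : ℕ) ∣ 3 ^ 2).trans h9))
  · rcases h with ⟨F, h3, h, ⟨e⟩⟩ | ⟨K, q, hq, hK, h, ⟨e⟩⟩ | h | h | h
    · obtain ⟨f⟩ := H638.G2Iso.equiv (F := F)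
      have h30 : (3 : F) ≠ 0 := H629.ExcFinal.ne_zero_of_not_dvd h
      by_cases h9 : 9 ∣ Fintype.card F ^ 2 - 1
      · exact Or.inr (Or.inr (Or.inr (Or.inl ⟨F, inferInstance, inferInstance, h30,
          by rwa [Nat.card_eq_fintype_card], ⟨e.trans f.symm⟩⟩)))
      · exact Or.inr (Or.inr (Or.inr (Or.inr (Or.inl ⟨F, inferInstance, inferInstance, h3, h, h9, ⟨e⟩⟩))))
    · have h30 : (3 : K) ≠ 0 := by
        refine H629.ExcFinal.ne_zero_of_not_dvd fun hd => h ?_
        rw [hK] at hd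
        exact Nat.prime_three.dvd_of_dvd_pow hd
      exact res3_of_fullP ((H790.TriMain.fullP_twD4 h30 hq hK).of_mulEquiv e.symm)
    · exact res3_of_char hna (by unfold IsLieTypeChar; tauto)
    · exact res3_of_fullP (H760.TwFFull.fullP_twF4_three h)
    · exact res3_of_out (SpAll.row_tits (by norm_num) h)

/-- **the refined rows, `p = 3`** -/
theorem res3_of_known [IsSimpleGroup G] (hna : ¬ IsMulCommutative G) (hK : IsKnownSimple' G) : Res3 G := by
  have hp2 : (3 : ℕ) ≠ 2 := by norm_num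
  rcases hK with h | h | h | h | h | h | h | h | h | h
  · have hf : Fact (Nat.card G).Prime := ⟨h⟩
    have hc : IsCyclic G := isCyclic_of_prime_card rfl
    exact absurd (IsCyclic.isMulCommutative (α := G)) hna
  · exact Or.inl (H794.full_alt hp2 h)
  · rcases row_classical hp2 (Or.inl h) with h | h
    · exact res3_of_char hna h
    · exact res3_of_dich h
  · rcases row_classical hp2 (Or.inr (Or.inl h)) with h | h
    · exact res3_of_char hna h
    · exact res3_of_dich h
  · rcases row_classical hp2 (Or.inr (Or.inr (Or.inl h))) with h | h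
    · exact res3_of_char hna h
    · exact res3_of_dich h
  · rcases row_classical hp2 (Or.inr (Or.inr (Or.inr (Or.inl h)))) with h | h
    · exact res3_of_char hna h
    · exact res3_of_dich h
  · rcases row_classical hp2 (Or.inr (Or.inr (Or.inr (Or.inr (Or.inl h))))) with h | h
    · exact res3_of_char hna h
    · exact res3_of_dich h
  · rcases row_classical hp2 (Or.inr (Or.inr (Or.inr (Or.inr (Or.inr h))))) with h | h
    · exact res3_of_char hna h
    · exact res3_of_dich h
  · exact res3_exc hna h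
  · exact res3_of_out (SpAll.spor_rows_odd h hp2)

/-- **the refined rows, `p = 3`** -/
theorem res3 [IsSimpleGroup G] (hna : ¬ IsMulCommutative G) : Res3 G :=
  res3_of_known hna Cfsg.Agent.S0000.result

end

end Cfsg.Agent.H792.OT
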