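import Cfsg.Agent.H792.OT.Tools
import Cfsg.Agent.H794.Full

/-!
# S2539, part 4: the TI row of the non-Sylow case (helper792)
-/

set_option autoImplicit false

open Subgroup
open scoped Pointwise commutatorElement

namespace Cfsg.Agent.H792.OT

universe u

section
variable {Y : Type u} [Group Y] {T M L : Subgroup Y}

/-- the `l`-elements of `N(Q)` lie in the Sylow subgroup `Q` -/
theorem mem_of_normalizer {G : Type*} [Group G] [Finite G] {l : ℕ} [Fact l.Prime] (Q : Sylow l G) {z : G}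
    (hz : z ∈ normalizer ((Q : Subgroup G) : Set G)) {k : ℕ} (hk : z ^ l ^ k = 1) : z ∈ (Q : Subgroup G) := by
  have hpg : IsPGroup l (zpowers z) := by
    rintro ⟨_, j, rfl⟩
    refine ⟨k, Subtype.ext ?_⟩
    change (z ^ j) ^ l ^ k = 1
    rw [← zpow_natCast, ← zpow_mul, mul_comm, zpow_mul, zpow_natCast, hk, one_zpow]
  have h := hpg.inf_normalizer_sylow Q
  exact (h.le ⟨mem_zpowers z, hz⟩).2

variable {l : ℕ} {hT : ∀ a ∈ T, ∀ b ∈ T, a * b = b * a} [Finite Y] [Fact l.Prime] {P : Sylow l Y}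

/-- **the TI row**: `P ∩ L` centralises the `s`-torsion of `T` -/
theorem Dat.comm_of_ti (D : Dat T M hT l P) (S : Soc T M L) (hl : l ∣ Nat.card L) (hTI : H794.TI l L) {s : ℕ}
    (hs : s.Prime) (hsl : l ≠ s) {x : Y} (hxP : x ∈ (P : Subgroup Y)) (hxL : x ∈ L) {t : Y} (ht : t ∈ T)
    (hts : t ^ s = 1) : x * t = t * x := by
  have hLn := S.normal
  obtain ⟨Q, hQ, -, -⟩ := D.dich S hl
  obtain ⟨r, hr, hr1⟩ := (lPart T hT l ⊓ L).bot_or_exists_ne_one.resolve_left (D.inf_ne_bot S hl)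
  have hmemQ : ∀ z : L, z ∈ (Q : Subgroup L) ↔ (z : Y) ∈ (P : Subgroup Y) := fun z => by
    rw [hQ, Subgroup.mem_subgroupOf]
  have hN : ∀ g : L, (g : Y) ∈ M → g ∈ normalizer ((Q : Subgroup L) : Set L) := by
    intro g hg
    refine hTI Q ⟨r, hr.2⟩ ((hmemQ _).2 (D.leP hr.1)) (fun h => hr1 (congrArg Subtype.val h)) g ?_
    rw [hmemQ]
    exact D.leP (conj_mem_lPart (D.conj g hg) hr.1)
  have hxM := D.le hxP
  have htM := D.TM ht
  obtain ⟨k, hk⟩ := P.2 ⟨x, hxP⟩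
  have hxk : x ^ l ^ k = 1 := congrArg Subtype.val hk
  have hyL : t * x⁻¹ * t⁻¹ ∈ L := hLn.conj_mem _ (L.inv_mem hxL) t
  have hyM : t * x⁻¹ * t⁻¹ ∈ M := M.mul_mem (M.mul_mem htM (M.inv_mem hxM)) (M.inv_mem htM)
  have hyQ : (⟨t * x⁻¹ * t⁻¹, hyL⟩ : L) ∈ (Q : Subgroup L) := by
    refine mem_of_normalizer Q (hN _ hyM) (k := k) (Subtype.ext ?_)
    change (t * x⁻¹ * t⁻¹) ^ l ^ k = 1
    rw [conj_pow, inv_pow, hxk, inv_one, mul_one, mul_inv_cancel]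
  have hcP : ⁅x, t⁆ ∈ (P : Subgroup Y) := by
    rw [commutatorElement_def, mul_assoc, mul_assoc, ← mul_assoc t]
    exact (P : Subgroup Y).mul_mem hxP ((hmemQ _).1 hyQ)
  obtain ⟨j, hj⟩ := P.2 ⟨_, hcP⟩
  have hcj : ⁅x, t⁆ ^ l ^ j = 1 := congrArg Subtype.val hj
  have hcs : ⁅x, t⁆ ^ s = 1 := by
    have h1 : Commute (x * t * x⁻¹) t⁻¹ := hT _ (D.conj x hxM t ht) _ (T.inv_mem ht)
    rw [commutatorElement_def, h1.mul_pow, conj_pow, hts, mul_one, mul_inv_cancel, inv_pow, hts, inv_one, one_mul]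
  have h1 : orderOf ⁅x, t⁆ = 1 := by
    have h2 : orderOf ⁅x, t⁆ ∣ l ^ j := orderOf_dvd_of_pow_eq_one hcj
    have h3 : orderOf ⁅x, t⁆ ∣ s := orderOf_dvd_of_pow_eq_one hcs
    have h4 : (l ^ j).Coprime s := Nat.Coprime.pow_left _ ((Nat.coprime_primes (Fact.out : l.Prime) hs).2 hsl)
    exact Nat.eq_one_of_dvd_one (h4 ▸ Nat.dvd_gcd h2 h3)
  rw [orderOf_eq_one_iff, commutatorElement_eq_one_iff_mul_comm] at h1
  exact h1

end

end Cfsg.Agent.H792.OT
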