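import Cfsg.Agent.H792.OT.CommMod
import Cfsg.Agent.H792.OT.Ti
import Cfsg.Agent.H792.OT.RowThree

/-!
# S2539, part 4, END_l: `l = 3`, `T_3` strongly closed and not a Sylow subgroup (helper792)
-/

set_option autoImplicit false

open Subgroup Cfsg Cfsg.Agent.H712.OT Cfsg.Agent.H214.OT
open scoped Pointwise commutatorElement

namespace Cfsg.Agent.H792.OT

universe u v w

theorem mod_eightyone : ∀ r : ZMod 81, r ^ 6 * (r ^ 2 - 1) * (r ^ 6 - 1) = 0 → 27 * r = 0 ∨ 9 * (r ^ 2 - 1) = 0 := by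
  decide +kernel

theorem not_dvd_of_gthree {G : Type u} [Group G] (h : GThree G) : ¬ 3 ^ 4 ∣ Nat.card G := by
  obtain ⟨F, _, _, -, h3, h9, ⟨e⟩⟩ := h
  rw [Nat.card_congr e.toEquiv, Cfsg.Agent.S1059.result (F := F) rfl]
  intro hd
  set q := Fintype.card F with hq
  have hq1 : 1 ≤ q := Fintype.card_pos
  have hq2 : 1 ≤ q ^ 2 := Nat.one_le_pow _ _ hq1
  have hq6 : 1 ≤ q ^ 6 := Nat.one_le_pow _ _ hq1
  have h1 : ((q ^ 6 * (q ^ 2 - 1) * (q ^ 6 - 1) : ℕ) : ZMod 81) = 0 :=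
    (ZMod.natCast_eq_zero_iff _ 81).2 (by norm_num at hd ⊢; exact hd)
  push_cast [Nat.cast_sub hq2, Nat.cast_sub hq6] at h1
  rcases mod_eightyone q h1 with h | h
  · apply h3
    have h2 : ((27 * q : ℕ) : ZMod 81) = 0 := by push_cast; exact h
    rw [ZMod.natCast_eq_zero_iff] at h2
    exact Nat.dvd_of_mul_dvd_mul_left (by norm_num : 0 < 27) (by norm_num; exact h2)
  · apply h9
    have h2 : ((9 * (q ^ 2 - 1) : ℕ) : ZMod 81) = 0 := by push_cast [Nat.cast_sub hq2]; exact h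
    rw [ZMod.natCast_eq_zero_iff] at h2
    exact Nat.dvd_of_mul_dvd_mul_left (by norm_num : 0 < 9) (by norm_num; exact h2)

variable {K : Type u} [Field K] [Fintype K] {Y : Type v} [Group Y] {T M : Subgroup Y}
  {Φ : Type w} {Ψ : Set Φ} {P : Φ → Φ → ℤ}

/-- the socle data of the environment -/
theorem soc_of_env {X : Ctx K Y T M Φ Ψ P} {L : Subgroup Y} (E : Env X L) : Soc T M L where
  normal := E.normal
  simple := E.simple
  nonab := fun h => E.nonab fun x y => h.is_comm.comm x y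
  cent := fun y hy => by
    have h : y ∈ centralizer (L : Set Y) := mem_centralizer_iff.2 hy
    rwa [E.cent, mem_bot] at h
  sup := by rw [sup_comm]; exact E.sup
  proper := by rw [E.hM]; exact E.core.ne

/-- **the non-Sylow case** from the root lemmas `RL`, the outer automorphism facts `hJ`, `hG` and the Sylow case `hsyl` -/
theorem nsyl_of [Finite Y] (X : Ctx K Y T M Φ Ψ P) {L : Subgroup Y} (E : Env X L) (H : RL X)
    (hJ : (Spor.IsoJ2 L ∨ Spor.IsoJ3 L) → ∀ t ∈ T, Odd (orderOf t) → t ∈ L)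
    (hG : GThree L → ∀ y : Y, (∃ k : ℕ, y ^ 3 ^ k = 1) → y ∈ L)
    (hK : Fintype.card K = 16 ∨ Fintype.card K = 64) (hA : A3 X)
    (hcl : ∀ f, f ∉ M → ∀ t ∈ T, orderOf t = 3 → f⁻¹ * t * f ∉ M)
    (hns : ∃ m ∈ M, m ∉ T ∧ m ^ 3 ∈ T)
    (hsyl : Fintype.card K = 16 → (∀ r : ℕ, r.Prime → 5 ≤ r → ∀ m ∈ M, m ^ r ∈ T → m ∈ T) → False) : False := by
  have hp3 : Fact (Nat.Prime 3) := ⟨Nat.prime_three⟩
  have hd3 : 3 ∣ Fintype.card K - 1 := by rcases hK with h | h <;> rw [h] <;> norm_num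
  have hT := X.comm
  have h27 : 3 ^ 3 ≤ Nat.card (tors T hT 3) := H.cube hA 3 Nat.prime_three le_rfl hd3
  have hcT : 3 ∣ Nat.card T := (dvd_pow_self 3 (by norm_num)).trans (cube_dvd Nat.prime_three h27 tors_le)
  obtain ⟨P₀, D⟩ := exists_dat X.TM X.conj_mem hT hcT (NoEl.of_inv hcl)
  have S := soc_of_env E
  have hLn := S.normal
  have hLs := S.simple
  have htl : tors T hT 3 ≤ lPart T hT 3 := fun t ht => ⟨ht.1, 1, by simpa using ht.2⟩
  have hnc : ¬ IsCyclic (lPart T hT 3) := not_cyclic_of Nat.prime_three (le_trans (by norm_num) h27) htl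
  have hl := D.dvd_card S hnc
  obtain ⟨x, hxP, hxL, hxT, hx3⟩ := D.exists_x S hns
  have hxM := D.le hxP
  obtain ⟨Q, hQ, hsc, -⟩ := D.dich S hl
  have hmemQ : ∀ z : L, z ∈ (Q : Subgroup L) ↔ (z : Y) ∈ (P₀ : Subgroup Y) := fun z => by
    rw [hQ, Subgroup.mem_subgroupOf]
  have hRne : (lPart T hT 3).subgroupOf L ≠ ⊥ := by
    intro h
    rw [Subgroup.subgroupOf_eq_bot, disjoint_iff] at h
    exact D.inf_ne_bot S hl h
  have hxQ : (⟨x, hxL⟩ : L) ∈ (Q : Subgroup L) := (hmemQ _).2 hxP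
  have hRQ : (lPart T hT 3).subgroupOf L ≠ Q := by
    intro h
    rw [← h, Subgroup.mem_subgroupOf] at hxQ
    exact hxT hxQ.1
  -- commutators with `x`
  have hcm : ∀ t ∈ T, (∃ k : ℕ, t ^ 3 ^ k = 1) → ⁅t, x⁆ ∈ lPart T hT 3 ∧ ⁅t, x⁆ ∈ L := by
    rintro t ht ⟨k, hk⟩
    obtain ⟨h1, h2⟩ := comm_mem X.TM X.conj_mem hLn ht hxM hxL
    exact ⟨⟨h1, k, by rw [comm_pow hT X.conj_mem ht hxM, hk, commutatorElement_one_left]⟩, h2⟩
  -- the case `T_3 ≤ L`, `81 ∤ |L|`
  have hfull : lPart T hT 3 ≤ L → ¬ 3 ^ 4 ∣ Nat.card L → False := by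
    intro hle h81
    apply hRQ
    refine Subgroup.eq_of_le_of_card_ge hsc.1 ?_
    have h1 : Nat.card ((lPart T hT 3).subgroupOf L) = Nat.card (lPart T hT 3) :=
      Nat.card_congr (Subgroup.subgroupOfEquivOfLe hle).toEquiv
    have h2 : 3 ^ 3 ≤ Nat.card (lPart T hT 3) := h27.trans (Subgroup.card_le_of_le htl)
    obtain ⟨n, hn⟩ := IsPGroup.iff_card.1 Q.isPGroup'
    have h3 : n ≤ 3 := by
      by_contra h4
      exact h81 ((pow_dvd_pow 3 (by omega)).trans (hn ▸ card_subgroup_dvd_card (Q : Subgroup L)))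
    rw [h1, hn]
    exact (Nat.pow_le_pow_right (by norm_num) h3).trans h2
  rcases res3 (G := L) S.nonab with h | h | h | h | h | h | h
  · -- full
    rcases h Q _ hsc with h | h
    · exact hRne h
    · exact hRQ h
  · -- TI
    rcases hK with hK | hK
    · exact hxT (H.faithful 5 Nat.prime_five (Or.inl le_rfl) (by rw [hK]; norm_num) x hxM fun t ht hts =>
        D.comm_of_ti S hl h Nat.prime_five (by norm_num) hxP hxL ht hts)
    · exact hxT (H.faithful 7 (by norm_num) (Or.inl (by norm_num)) (by rw [hK]; norm_num) x hxM fun t ht hts =>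
        D.comm_of_ti S hl h (by norm_num) (by norm_num) hxP hxL ht hts)
  · -- abelian
    have hab : ∀ a : Y, a ∈ (P₀ : Subgroup Y) → a ∈ L → x * a = a * x := by
      intro a haP haL
      have h1 := (h Q).is_comm.comm ⟨⟨x, hxL⟩, hxQ⟩ ⟨⟨a, haL⟩, (hmemQ ⟨a, haL⟩).2 haP⟩
      exact congrArg (fun z : (Q : Subgroup L) => ((z : L) : Y)) h1
    have hquad : ∀ t ∈ T, (∃ k : ℕ, t ^ 3 ^ k = 1) → ⁅⁅t, x⁆, x⁆ = 1 := by
      intro t ht hk
      obtain ⟨h1, h2⟩ := hcm t ht hk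
      rw [commutatorElement_eq_one_iff_mul_comm]
      exact (hab _ (D.leP h1) h2).symm
    rcases hK with hK | hK
    · refine hsyl hK fun r hr hr5 m hm hmr => ?_
      have hxK : x ∈ K1 X hLn := ⟨hxM, fun a ha ha3 haL => hab a (D.leP ⟨ha, 1, by simpa using ha3⟩) haL,
        fun t ht ht3 => (hcm t ht ⟨1, by simpa using ht3⟩).2⟩
      obtain ⟨g, hgL, hgM, t₀, ht₀, rfl⟩ := S.exists_mul X.TM hm
      have hgr : g ^ r ∈ T := (mul_pow_mem_iff X.TM X.conj_mem hgM ht₀ r).1 hmr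
      refine T.mul_mem ?_ ht₀
      have hxg : ⁅x, g⁆ ∈ T := K1_comm_mod X hLn H hA hd3 hxK hxT hx3 hgM hr hr5 hgr
      have hnu : Nu X ⟨x, hxM⟩ := K1_nu X hLn H hd3 (m := ⟨x, hxM⟩) hxK hxT hx3
      refine H.nocomm hA hd3 ⟨x, hxM⟩ ⟨g, hgM⟩ hnu hx3 r hr hr5 hgr hxg fun t ht ht3 => ?_
      obtain ⟨h1, h2⟩ := comm_mem X.TM X.conj_mem hLn ht hgM hgL
      rw [commutatorElement_eq_one_iff_mul_comm]
      refine (hab _ (D.leP ⟨h1, 1, ?_⟩) h2).symm
      rw [comm_pow hT X.conj_mem ht hgM, pow_one, ht3, commutatorElement_one_left]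
    · exact hxT (H.nine (by rw [hK]; norm_num) ⟨x, hxM⟩ hx3 fun t ht ht9 => hquad t ht ⟨2, by norm_num; exact ht9⟩)
  · -- `G₂(q)`, `9 ∣ q² - 1`
    obtain ⟨F, _, _, h3, h9, ⟨e⟩⟩ := h
    rcases H181.OctHerm.row h3 e with ⟨-, h⟩ | ⟨h, -⟩
    · rcases h Q _ hsc with h | h | ⟨h, hc⟩
      · exact hRne h
      · exact hRQ h
      · have hcx : ∀ a : Y, a ∈ lPart T hT 3 → a ∈ L → x * a = a * x := by
          intro a ha haL
          have h1 : (⟨a, haL⟩ : L) ∈ (lPart T hT 3).subgroupOf L := ha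
          rw [h] at h1
          exact congrArg Subtype.val (mem_centralizer_iff.1 h1.2 ⟨x, hxL⟩ hxQ)
        have hnu : Nu X ⟨x, hxM⟩ := H.quad hd3 ⟨x, hxM⟩ hxT hx3 fun t ht ht3 => by
          obtain ⟨h1, h2⟩ := hcm t ht ⟨1, by simpa using ht3⟩
          rw [commutatorElement_eq_one_iff_mul_comm]
          exact (hcx _ h1 h2).symm
        have h10 := H.nle hA hd3 ⟨x, hxM⟩ hnu hx3 (((lPart T hT 3).subgroupOf L).map L.subtype) fun t ht ht3 => by
          obtain ⟨h1, h2⟩ := hcm t ht ⟨1, by simpa using ht3⟩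
          exact ⟨⟨_, h2⟩, h1, rfl⟩
        have h11 : Nat.card (((lPart T hT 3).subgroupOf L).map L.subtype) = 3 := by
          exact (Nat.card_congr (((lPart T hT 3).subgroupOf L).equivMapOfInjective _
            (Subgroup.subtype_injective L)).toEquiv).symm.trans hc
        rw [h11] at h10
        norm_num at h10
    · exact absurd h9 h
  · -- `G₂(q)`, `9 ∤ q² - 1`
    exact hfull (fun t ht => hG h t ht.2) (not_dvd_of_gthree h)
  · -- `J₂`
    refine hfull (fun t ht => ?_) ?_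
    · obtain ⟨htT, k, hk⟩ := ht
      refine hJ (Or.inl h) t htT ?_
      exact Odd.of_dvd_nat (Odd.pow (by decide)) (orderOf_dvd_of_pow_eq_one hk)
    · rw [NotCT.Orders.j2 h]
      norm_num
  · -- `J₃`
    have hTL : T ≤ L := by
      intro t ht
      refine hJ (Or.inr h) t ht ?_
      have h1 : orderOf t ∣ Fintype.card K - 1 := orderOf_dvd_of_pow_eq_one (H.exponent t ht)
      refine Odd.of_dvd_nat ?_ h1
      rcases hK with hK | hK <;> rw [hK] <;> decide
    have hc := NotCT.Orders.j3 h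
    rcases hK with hK | hK
    · have h1 := cube_dvd (hT := hT) Nat.prime_five (H.cube hA 5 Nat.prime_five (by norm_num) (by rw [hK]; norm_num))
        (tors_le.trans hTL)
      rw [hc] at h1
      norm_num at h1
    · have h1 := cube_dvd (hT := hT) (s := 7) (by norm_num) (H.cube hA 7 (by norm_num) (by norm_num)
        (by rw [hK]; norm_num)) (tors_le.trans hTL)
      rw [hc] at h1
      norm_num at h1

end Cfsg.Agent.H792.OT
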