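import Cfsg.Agent.H792.OT.RowThree
import Cfsg.Agent.H214.OT.Env
import Cfsg.Agent.H934.OutB
import Cfsg.Agent.S2066
import Cfsg.Agent.S2067
import Cfsg.Agent.S2068
import Cfsg.Agent.S2073
import Cfsg.Agent.S2121

/-!
# S2539, part 4, END_l: elements of order prime to `|Out L|` lie in the socle `L` (helper792)
-/

set_option autoImplicit false

open Subgroup Cfsg Cfsg.Agent.H712.OT Cfsg.Agent.H214.OT

namespace Cfsg.Agent.H792.OT

universe u v w

section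
variable {Y : Type v} [Group Y] {L : Subgroup Y}

/-- an element of `Y` whose order is prime to `|Out L|` lies in `L`, when `L ⊴ Y`, `C_Y(L) = 1` -/
theorem mem_of_out (hL : L.Normal) (hC : centralizer (L : Set Y) = ⊥) {n k : ℕ} (hn : Nat.card (Out L) = n) {y : Y}
    (hy : y ^ k = 1) (hc : n.Coprime k) : y ∈ L := by
  have h1 : (QuotientGroup.mk (MulAut.conjNormal y : MulAut L) : Out L) ^ k = 1 := by
    rw [← QuotientGroup.mk_pow, ← map_pow, hy, map_one, QuotientGroup.mk_one]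
  have h2 : (QuotientGroup.mk (MulAut.conjNormal y : MulAut L) : Out L) ^ n = 1 := by
    rw [← hn]
    exact pow_card_eq_one'
  have h3 : (QuotientGroup.mk (MulAut.conjNormal y : MulAut L) : Out L) = 1 := by
    rw [← orderOf_eq_one_iff]
    exact Nat.eq_one_of_dvd_one (hc ▸ Nat.dvd_gcd (orderOf_dvd_of_pow_eq_one h2) (orderOf_dvd_of_pow_eq_one h1))
  rw [QuotientGroup.eq_one_iff] at h3
  obtain ⟨a, ha⟩ := h3
  have h4 : (a : Y)⁻¹ * y ∈ centralizer (L : Set Y) := by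
    rw [mem_centralizer_iff]
    intro x hx
    have h5 := congrArg (fun φ : MulAut L => ((φ ⟨x, hx⟩ : L) : Y)) ha
    change (a : Y) * x * (a : Y)⁻¹ = y * x * y⁻¹ at h5
    have h6 : y * x = a * x * (a : Y)⁻¹ * y := by rw [h5]; group
    rw [mul_assoc ((a : Y)⁻¹) y x, h6]
    group
  rw [hC, mem_bot, inv_mul_eq_one] at h4
  rw [← h4]
  exact a.2

theorem mem_of_out_odd (hL : L.Normal) (hC : centralizer (L : Set Y) = ⊥) (hn : Nat.card (Out L) = 2) {y : Y}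
    (hy : Odd (orderOf y)) : y ∈ L :=
  mem_of_out hL hC hn (pow_orderOf_eq_one y) hy.coprime_two_left

theorem out_j2 (h : Spor.IsoJ2 L) : Nat.card (Out L) = 2 := by
  obtain ⟨e⟩ := h
  rw [Cfsg.Agent.H934.OutB.card_out_congr e, Cfsg.Agent.S2066.result]

theorem out_j3 (h : Spor.IsoJ3 L) : Nat.card (Out L) = 2 := by
  obtain ⟨F, _, _, ω, hF, hω, ⟨e⟩⟩ := h
  rw [Cfsg.Agent.H934.OutB.card_out_congr e, Cfsg.Agent.S2067.result hF ω hω]

theorem out_mcl (h : Spor.IsoMcL L) : Nat.card (Out L) = 2 := by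
  obtain ⟨e⟩ := h
  rw [Cfsg.Agent.H934.OutB.card_out_congr e, Cfsg.Agent.S2073.result]

theorem out_j4 (h : Spor.IsoJ4 L) : Nat.card (Out L) = 1 := by
  obtain ⟨e⟩ := h
  rw [Cfsg.Agent.H934.OutB.card_out_congr e, Cfsg.Agent.S2068.result]

/-- **`J₂`, `J₃`, `McL`** : the elements of odd order lie in `L` -/
theorem odd_mem (hL : L.Normal) (hC : centralizer (L : Set Y) = ⊥)
    (h : Spor.IsoJ2 L ∨ Spor.IsoJ3 L ∨ Spor.IsoMcL L) {y : Y} (hy : Odd (orderOf y)) : y ∈ L := by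
  rcases h with h | h | h
  · exact mem_of_out_odd hL hC (out_j2 h) hy
  · exact mem_of_out_odd hL hC (out_j3 h) hy
  · exact mem_of_out_odd hL hC (out_mcl h) hy

/-- **`J₄`** : `L = Y` -/
theorem eq_top_of_j4 (hL : L.Normal) (hC : centralizer (L : Set Y) = ⊥) (h : Spor.IsoJ4 L) (y : Y) : y ∈ L :=
  mem_of_out hL hC (out_j4 h) (pow_orderOf_eq_one y) (Nat.coprime_one_left _)

theorem not_three_dvd_of {q f p : ℕ} (hq : q = p ^ f) (h3 : ¬ 3 ∣ q) (h9 : ¬ 9 ∣ q ^ 2 - 1) : ¬ 3 ∣ f := by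
  rintro ⟨j, rfl⟩
  have h1 : q = (p ^ j) ^ 3 := by rw [hq, ← pow_mul, mul_comm]
  set r := p ^ j with hr
  have hr3 : ¬ 3 ∣ r := fun h => h3 (h1 ▸ dvd_pow h (by norm_num))
  apply h9
  have hq1 : 1 ≤ q ^ 2 := Nat.one_le_pow _ _ (Nat.pos_of_ne_zero (by rintro rfl; exact h3 (dvd_zero _)))
  rw [← (Nat.modEq_iff_dvd' hq1 : 1 ≡ q ^ 2 [MOD 9] ↔ _)]
  unfold Nat.ModEq
  rw [h1, ← pow_mul, Nat.pow_mod]
  have h4 : r % 9 < 9 := Nat.mod_lt _ (by norm_num)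
  have h5 : r % 9 % 3 ≠ 0 := by omega
  interval_cases r % 9 <;> simp_all

/-- **`G₂(q)`, `3 ∤ q`, `9 ∤ q² - 1`** : the `3`-elements lie in `L` -/
theorem three_mem (hL : L.Normal) (hC : centralizer (L : Set Y) = ⊥) (h : GThree L) {y : Y}
    (hy : ∃ k : ℕ, y ^ 3 ^ k = 1) : y ∈ L := by
  obtain ⟨F, _, _, h2, h3, h9, ⟨e⟩⟩ := h
  obtain ⟨k, hk⟩ := hy
  obtain ⟨p, hp⟩ := CharP.exists F
  obtain ⟨f, hpp, hf⟩ := FiniteField.card F p
  have hfp : Fact p.Prime := ⟨hpp⟩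
  have h4 := Cfsg.Agent.S2121.result (F := F) p f hf (by rw [← hf]; exact h2)
  have hp3 : p ≠ 3 := by
    rintro rfl
    exact h3 (hf ▸ dvd_pow_self 3 f.ne_zero)
  rw [if_neg hp3] at h4
  refine mem_of_out hL hC (n := f) (by rw [Cfsg.Agent.H934.OutB.card_out_congr e, h4]) hk ?_
  refine Nat.Coprime.pow_right _ ?_
  exact ((Nat.prime_three.coprime_iff_not_dvd).2 (not_three_dvd_of hf h3 h9)).symm

end

variable {K : Type u} [Field K] [Fintype K] {Y : Type v} [Group Y] {T M : Subgroup Y}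
  {Φ : Type w} {Ψ : Set Φ} {P : Φ → Φ → ℤ}

/-- `hJ` -/
theorem env_hJ {X : Ctx K Y T M Φ Ψ P} {L : Subgroup Y} (E : Env X L) (h : Spor.IsoJ2 L ∨ Spor.IsoJ3 L) :
    ∀ t ∈ T, Odd (orderOf t) → t ∈ L := fun _ _ ho =>
  odd_mem E.normal E.cent (by tauto) ho

/-- `hG` -/
theorem env_hG {X : Ctx K Y T M Φ Ψ P} {L : Subgroup Y} (E : Env X L) (h : GThree L) :
    ∀ y : Y, (∃ k : ℕ, y ^ 3 ^ k = 1) → y ∈ L := fun _ hy => three_mem E.normal E.cent h hy

end Cfsg.Agent.H792.OT
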