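import Cfsg.Agent.H792.OT.Core
import Cfsg.Agent.S5116
import Cfsg.Agent.Transfer.FrobeniusFusion
import Cfsg.Agent.Lib.CoprimeAbelian
import Mathlib.GroupTheory.Commutator.Basic

/-!
# S2539, part 4: the two cases `T_l` Sylow / not Sylow (helper792)
-/

set_option autoImplicit false

open Subgroup
open scoped Pointwise commutatorElement

namespace Cfsg.Agent.H792.OT

universe u

section
variable {Y : Type u} [Group Y] [Finite Y] {T M L : Subgroup Y} {l : ℕ} [Fact l.Prime]
  {hT : ∀ a ∈ T, ∀ b ∈ T, a * b = b * a} {P : Sylow l Y}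

/-- `T_l ∩ L` is strongly closed in the Sylow subgroup `P ∩ L` of `L`; it is the whole Sylow subgroup or the conclusion of
the theorem of Flores and Foote holds -/
theorem Dat.dich (D : Dat T M hT l P) (S : Soc T M L) (hl : l ∣ Nat.card L) :
    ∃ Q : Sylow l L, (Q : Subgroup L) = (P : Subgroup Y).subgroupOf L ∧
      Cfsg.IsStronglyClosed ((lPart T hT l).subgroupOf L) (Q : Subgroup L) ∧
      ((lPart T hT l).subgroupOf L = (Q : Subgroup L) ∨
        (Cfsg.groupFusionSystem (Q : Subgroup L)).IsNormal Q ∨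
        (l = 3 ∧ (∃ (F : Type) (_ : Field F) (_ : Fintype F), (Fintype.card F % 9 = 1 ∨ Fintype.card F % 9 = 8) ∧
          Nonempty (L ≃* ↥(Cfsg.Lie.G2 F))) ∧ Nat.card ((lPart T hT l).subgroupOf L) = 3)) := by
  have hLn := S.normal
  have hLs := S.simple
  obtain ⟨Q, hQ⟩ := Cfsg.Agent.Transfer.FrobeniusFusion.exists_sylow_subgroupOf P L
  have hsc : Cfsg.IsStronglyClosed ((lPart T hT l).subgroupOf L) (Q : Subgroup L) := by
    refine ⟨?_, fun x hx g hg => ?_⟩
    · rw [hQ]
      intro x hx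
      exact Subgroup.mem_subgroupOf.2 (D.leP (Subgroup.mem_subgroupOf.1 hx))
    · rw [hQ] at hg
      exact Subgroup.mem_subgroupOf.2 (D.stronglyClosed.2 x (Subgroup.mem_subgroupOf.1 hx) g
        (Subgroup.mem_subgroupOf.1 hg))
  refine ⟨Q, hQ, hsc, ?_⟩
  by_cases he : (lPart T hT l).subgroupOf L = (Q : Subgroup L)
  · exact Or.inl he
  · right
    have hne : (lPart T hT l).subgroupOf L ≠ ⊥ := by
      intro h
      rw [Subgroup.subgroupOf_eq_bot, disjoint_iff] at h
      exact D.inf_ne_bot S hl h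
    rcases Cfsg.Agent.S5116.result S.nonab l Q _ hne (lt_of_le_of_ne hsc.1 he) hsc with h | ⟨h1, h2, -, h3⟩
    · exact Or.inl h
    · exact Or.inr ⟨h1, h2, h3⟩

/-- if the Sylow subgroup `P` lies in `T`, it is the `l`-part of `T` -/
theorem Dat.eq_lPart (D : Dat T M hT l P) (hP : (P : Subgroup Y) ≤ T) : (P : Subgroup Y) = lPart T hT l := by
  refine le_antisymm (fun x hx => ⟨hP hx, ?_⟩) D.leP
  obtain ⟨k, hk⟩ := P.2 ⟨x, hx⟩
  exact ⟨k, congrArg Subtype.val hk⟩

/-- if the `l`-part of `T` is a Sylow subgroup of `Y`, it lies in `L` -/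
theorem Dat.le_socle (D : Dat T M hT l P) (S : Soc T M L) (hl : l ∣ Nat.card L) (hP : (P : Subgroup Y) ≤ T) :
    (P : Subgroup Y) ≤ L := by
  have hPe := D.eq_lPart hP
  have hPn : ((P : Subgroup Y).subgroupOf M).Normal := by
    refine ⟨fun x hx m => ?_⟩
    rw [Subgroup.mem_subgroupOf, hPe] at hx ⊢
    exact conj_mem_lPart (D.conj m m.2) hx
  have hcop : (Nat.card ((P : Subgroup Y).subgroupOf M)).Coprime ((P : Subgroup Y).subgroupOf M).index := by
    obtain ⟨n, hn⟩ := IsPGroup.iff_card.1 (P.2.comap_of_injective M.subtype (Subgroup.subtype_injective M))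
    change Nat.card ((P : Subgroup Y).subgroupOf M) = _ at hn
    rw [hn]
    refine Nat.Coprime.pow_left _ (((Fact.out : l.Prime).coprime_iff_not_dvd).2 ?_)
    intro h
    have h1 : (P : Subgroup Y).relIndex M ∣ (P : Subgroup Y).index := Subgroup.relIndex_dvd_index_of_le D.le
    exact P.not_dvd_index (h.trans h1)
  obtain ⟨K, hK⟩ := Subgroup.exists_right_complement'_of_coprime hcop
  let A : Subgroup Y := K.map M.subtype
  have hAM : A ≤ M := Subgroup.map_subtype_le _
  have hV : ∀ x ∈ (P : Subgroup Y), ∀ y ∈ (P : Subgroup Y), x * y = y * x := fun x hx y hy =>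
    hT x (hP hx) y (hP hy)
  have hAV : A ≤ Subgroup.normalizer ((P : Subgroup Y) : Set Y) := by
    intro a ha
    rw [Subgroup.mem_normalizer_iff]
    intro x
    constructor
    · intro hx
      rw [hPe] at hx ⊢
      exact conj_mem_lPart (D.conj a (hAM ha)) hx
    · intro hx
      rw [hPe] at hx ⊢
      have := conj_mem_lPart (D.conj a⁻¹ (M.inv_mem (hAM ha))) hx
      have h3 : a⁻¹ * (a * x * a⁻¹) * a⁻¹⁻¹ = x := by group
      rwa [h3] at this
  have hcop2 : (Nat.card A).Coprime (Nat.card (P : Subgroup Y)) := by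
    have h1 : Nat.card A = Nat.card K := (Nat.card_congr (K.equivMapOfInjective _ (Subgroup.subtype_injective M)).toEquiv).symm
    have h2 : Nat.card K = ((P : Subgroup Y).subgroupOf M).index := hK.symm.index_eq_card.symm
    have h3 : Nat.card ((P : Subgroup Y).subgroupOf M) = Nat.card (P : Subgroup Y) :=
      Nat.card_congr (Subgroup.subgroupOfEquivOfLe D.le).toEquiv
    rw [h1, h2, ← h3]
    exact hcop.symm
  have hsup := Cfsg.Agent.Lib.CoprimeAbelian.sup_commutator_eq A (P : Subgroup Y) hV hAV hcop2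
  rw [← hsup]
  refine sup_le ?_ ?_
  · rintro x ⟨hx, hxc⟩
    have : x = 1 := by
      refine D.eq_one_of_cent S hl (by rw [← hPe]; exact hx) fun m hm => ?_
      obtain ⟨⟨⟨p, hp⟩, ⟨k, hk⟩⟩, hpk⟩ := hK.2 ⟨m, hm⟩
      have hpk' : (p : Y) * (k : Y) = m := congrArg Subtype.val hpk
      have h1 : (k : Y) * x = x * k := Subgroup.mem_centralizer_iff.1 hxc k ⟨k, hk, rfl⟩
      have h2 : (p : Y) * x = x * p := hV p (Subgroup.mem_subgroupOf.1 hp) x hx
      rw [← hpk', mul_assoc, h1, ← mul_assoc, h2, mul_assoc]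
    rw [this]
    exact L.one_mem
  · rw [Subgroup.commutator_le]
    intro t ht a ha
    obtain ⟨x, hx, hxM, s, hs, rfl⟩ := S.exists_mul D.TM (hAM ha)
    have h1 : ⁅t, x * s⁆ = t * x * t⁻¹ * x⁻¹ := by
      have h2 : s * t⁻¹ = t⁻¹ * s := hT s hs t⁻¹ (T.inv_mem (hP ht))
      rw [commutatorElement_def]
      calc t * (x * s) * t⁻¹ * (x * s)⁻¹ = t * x * (s * t⁻¹) * s⁻¹ * x⁻¹ := by group
        _ = t * x * t⁻¹ * x⁻¹ := by rw [h2]; group
    rw [h1]
    exact L.mul_mem (S.normal.conj_mem x hx t) (L.inv_mem hx)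

end

end Cfsg.Agent.H792.OT
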