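import Cfsg.Agent.H792.OT.Sixteen

/-!
# S2539, part 4: `K₁/T` has a unique subgroup of order 3 (helper792)
-/

set_option autoImplicit false

open Subgroup Cfsg.Agent.H712.OT Cfsg.Agent.H214.OT
open scoped Pointwise commutatorElement

namespace Cfsg.Agent.H792.OT

universe u v w

/-- a conjugate of an element of order 3 by an element of odd prime order, lying in the subgroup it generates -/
theorem commute_of_conj_mem {W : Type*} [Group W] {x g : W} (hx : orderOf x = 3) {p : ℕ} (hp : p.Prime) (hp5 : 5 ≤ p)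
    (hg : g ^ p = 1) (h : g * x * g⁻¹ ∈ zpowers x) : Commute g x := by
  have hx3 : x ^ 3 = 1 := by rw [← hx, pow_orderOf_eq_one]
  have hx1 : x ≠ 1 := by
    rintro rfl
    rw [orderOf_one] at hx
    norm_num at hx
  obtain ⟨k, hk⟩ := mem_zpowers_iff.1 h
  have hk3 : x ^ (k % 3) = x ^ k := by
    conv_rhs => rw [← Int.emod_add_mul_ediv k 3, zpow_add, zpow_mul]
    have : x ^ (3 : ℤ) = 1 := by exact_mod_cast hx3
    rw [this, one_zpow, mul_one]
  rw [← hk3] at hk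
  have h0 : 0 ≤ k % 3 := Int.emod_nonneg _ (by norm_num)
  have h3 : k % 3 < 3 := Int.emod_lt_of_pos _ (by norm_num)
  generalize k % 3 = j at hk h0 h3
  interval_cases j
  · exfalso
    rw [zpow_zero] at hk
    apply hx1
    have := hk.symm
    rwa [conj_eq_one_iff] at this
  · rw [zpow_one] at hk
    show g * x = x * g
    exact (mul_inv_eq_iff_eq_mul.1 hk.symm)
  · have hk2 : g * x * g⁻¹ = x ^ 2 := by rw [← hk]; norm_cast
    have h2 : Commute (g ^ 2) x := by
      show g ^ 2 * x = x * g ^ 2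
      have h4 : g * (g * x * g⁻¹) * g⁻¹ = x := by
        rw [hk2, ← conj_pow, hk2, ← pow_mul]
        calc x ^ (2 * 2) = x ^ 3 * x := by rw [← pow_succ]
          _ = x := by rw [hx3, one_mul]
      calc g ^ 2 * x = g * (g * x * g⁻¹) * g⁻¹ * g ^ 2 := by rw [pow_two]; group
        _ = x * g ^ 2 := by rw [h4]
    obtain ⟨j, hj⟩ := hp.odd_of_ne_two (by omega)
    have h5 : g = (g ^ 2) ^ (j + 1) := by
      rw [← pow_mul, show 2 * (j + 1) = p + 1 by omega, pow_succ, hg, one_mul]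
    rw [h5]
    exact h2.pow_left _

variable {K : Type u} [Field K] [Fintype K] {Y : Type v} [Group Y] {T M : Subgroup Y}
  {Φ : Type w} {Ψ : Set Φ} {P : Φ → Φ → ℤ} {L : Subgroup Y}

/-- an element of order 3 of `K₁` modulo `T` commutes modulo `T` with the elements of prime order `p ≥ 5` modulo `T` -/
theorem K1_comm_mod [Finite Y] (X : Ctx K Y T M Φ Ψ P) (hL : L.Normal) (H : RL X) (hA : A3 X)
    (hd : 3 ∣ Fintype.card K - 1) {x g : Y} (hx : x ∈ K1 X hL) (hxT : x ∉ T) (hx3 : x ^ 3 ∈ T) (hg : g ∈ M) {p : ℕ}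
    (hp : p.Prime) (hp5 : 5 ≤ p) (hgp : g ^ p ∈ T) : ⁅x, g⁆ ∈ T := by
  have hN := normal_of X.conj_mem
  set π := QuotientGroup.mk' (T.subgroupOf M) with hπ
  have key : ∀ y : M, (π y = 1 ↔ (y : Y) ∈ T) := fun y =>
    (QuotientGroup.eq_one_iff (N := T.subgroupOf M) y).trans Subgroup.mem_subgroupOf
  set B : Subgroup (M ⧸ T.subgroupOf M) := ((K1 X hL).subgroupOf M).map π with hB
  have hBmem : ∀ w ∈ B, ∃ m : M, (m : Y) ∈ K1 X hL ∧ π m = w := by
    rintro w ⟨m, hm, rfl⟩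
    exact ⟨m, Subgroup.mem_subgroupOf.1 hm, rfl⟩
  have hmB : ∀ m : M, (m : Y) ∈ K1 X hL → π m ∈ B := fun m hm => ⟨m, Subgroup.mem_subgroupOf.2 hm, rfl⟩
  -- claim 1
  have hprime : ∀ w ∈ B, ∀ r : ℕ, r.Prime → r ≠ 3 → w ^ r = 1 → w = 1 := by
    intro w hw r hr hr3 hwr
    obtain ⟨m, hm, rfl⟩ := hBmem w hw
    rw [← map_pow, key] at hwr
    rw [key]
    exact K1_prime X hL H hA hd hm hr hr3 (by simpa using hwr)
  have hp3 : Fact (Nat.Prime 3) := ⟨Nat.prime_three⟩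
  -- claim 2
  have huniq : ∀ y ∈ B, ∀ z ∈ B, y ≠ 1 → z ≠ 1 → y ^ 3 = 1 → z ^ 3 = 1 → y * z = z * y → y ∈ zpowers z := by
    intro y hy z hz hy1 hz1 hy3 hz3 hyz
    by_contra hc
    obtain ⟨m, hm, rfl⟩ := hBmem y hy
    obtain ⟨n, hn, rfl⟩ := hBmem z hz
    have hcomm : Commute (π m) (π n) := hyz
    have e1 : (m : Y) ∉ T := fun h => hy1 ((key m).2 h)
    have e2 : (n : Y) ∉ T := fun h => hz1 ((key n).2 h)
    have e3 : (m : Y) ^ 3 ∈ T := by
      rw [← map_pow, key] at hy3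
      simpa using hy3
    have e4 : (n : Y) ^ 3 ∈ T := by
      rw [← map_pow, key] at hz3
      simpa using hz3
    have e5 : π (m * n) ≠ 1 := by
      intro h
      apply hc
      rw [map_mul, mul_eq_one_iff_eq_inv] at h
      rw [h]
      exact (zpowers (π n)).inv_mem (mem_zpowers _)
    have e6 : π (m * n ^ 2) ≠ 1 := by
      intro h
      apply hc
      rw [map_mul, map_pow, mul_eq_one_iff_eq_inv] at h
      rw [h]
      exact (zpowers (π n)).inv_mem ((zpowers (π n)).pow_mem (mem_zpowers _) 2)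
    have e7 : π (m * n) ^ 3 = 1 := by
      rw [map_mul, hcomm.mul_pow, hy3, hz3, one_mul]
    have e8 : π (m * n ^ 2) ^ 3 = 1 := by
      rw [map_mul, map_pow, (hcomm.pow_right 2).mul_pow, hy3, ← pow_mul, mul_comm, pow_mul, hz3, one_pow, one_mul]
    have f : ∀ k : M, (k : Y) ∈ K1 X hL → π k ≠ 1 → π k ^ 3 = 1 → Nu X k := by
      intro k hk hk1 hk3
      refine K1_nu X hL H hd hk (fun h => hk1 ((key k).2 h)) ?_
      rw [← map_pow, key] at hk3
      simpa using hk3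
    refine H.cyc m n ?_ e3 e4 (f m hm hy1 hy3) (f n hn hz1 hz3) (f _ ((K1 X hL).mul_mem hm hn) e5 e7)
      (f _ ((K1 X hL).mul_mem hm ((K1 X hL).pow_mem hn 2)) e6 e8)
    have h9 : π ⁅m, n⁆ = 1 := by
      rw [map_commutatorElement, commutatorElement_eq_one_iff_mul_comm]
      exact hyz
    rw [key] at h9
    exact h9
  -- `B` is a 3-group
  have hBcard : Nat.card B = 3 ^ (Nat.card B).primeFactorsList.length := by
    refine Nat.eq_prime_pow_of_unique_prime_dvd Nat.card_pos.ne' fun {d} hd' hdd => ?_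
    have : Fact d.Prime := ⟨hd'⟩
    obtain ⟨b, hb⟩ := exists_prime_orderOf_dvd_card' d hdd
    by_contra hne
    have h1 : (b : M ⧸ T.subgroupOf M) = 1 := by
      refine hprime b b.2 d hd' hne ?_
      rw [← hb]
      exact_mod_cast congrArg Subtype.val (pow_orderOf_eq_one b)
    have h2 : b = 1 := Subtype.ext h1
    rw [h2, orderOf_one] at hb
    exact hd'.one_lt.ne hb
  have hBp : IsPGroup 3 B := IsPGroup.of_card hBcard
  have hxM : x ∈ M := hx.1
  set w : M ⧸ T.subgroupOf M := π ⟨x, hxM⟩ with hw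
  have hwB : w ∈ B := hmB _ hx
  have hw1 : w ≠ 1 := fun h => hxT ((key ⟨x, hxM⟩).1 h)
  have hw3 : w ^ 3 = 1 := by
    rw [hw, ← map_pow, key]
    simpa using hx3
  have hwo : orderOf w = 3 := orderOf_eq_prime hw3 hw1
  have hBn : Nontrivial B := ⟨⟨⟨w, hwB⟩, 1, fun h => hw1 (congrArg Subtype.val h)⟩⟩
  have hcn := hBp.center_nontrivial
  obtain ⟨z, hz⟩ : ∃ z : center B, orderOf z = 3 := by
    obtain ⟨n, hn, hn'⟩ := (hBp.to_subgroup (center B)).nontrivial_iff_card.1 hcn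
    exact exists_prime_orderOf_dvd_card' 3 (hn' ▸ dvd_pow_self 3 hn.ne')
  set z' : M ⧸ T.subgroupOf M := ((z : B) : M ⧸ T.subgroupOf M) with hz'
  have hz'o : orderOf z' = 3 := by rw [hz', orderOf_coe, orderOf_coe, hz]
  have hz'1 : z' ≠ 1 := by
    intro h
    rw [h, orderOf_one] at hz'o
    norm_num at hz'o
  have hz'3 : z' ^ 3 = 1 := by rw [← hz'o, pow_orderOf_eq_one]
  have hz'c : ∀ y ∈ B, y * z' = z' * y := fun y hy =>
    congrArg Subtype.val (mem_center_iff.1 z.2 ⟨y, hy⟩)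
  have hall : ∀ y ∈ B, y ≠ 1 → y ^ 3 = 1 → y ∈ zpowers z' := fun y hy hy1 hy3 =>
    huniq y hy z' (z : B).2 hy1 hz'1 hy3 hz'3 (hz'c y hy)
  have hzw : zpowers z' = zpowers w := by
    symm
    refine Subgroup.eq_of_le_of_card_ge (zpowers_le.2 (hall w hwB hw1 hw3)) ?_
    rw [Nat.card_zpowers, Nat.card_zpowers, hz'o, hwo]
  -- conjugation by `g`
  set γ : M ⧸ T.subgroupOf M := π ⟨g, hg⟩ with hγ
  have hγp : γ ^ p = 1 := by
    rw [hγ, ← map_pow, key]
    simpa using hgp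
  have hconj : γ * w * γ⁻¹ ∈ zpowers w := by
    rw [← hzw]
    refine hall _ ?_ ?_ ?_
    · have := hmB (⟨g, hg⟩ * ⟨x, hxM⟩ * ⟨g, hg⟩⁻¹) (K1_conj X hL hx hg)
      rwa [map_mul, map_mul, map_inv] at this
    · rw [Ne, conj_eq_one_iff]
      exact hw1
    · rw [conj_pow, hw3, mul_one, mul_inv_cancel]
  have hcom := commute_of_conj_mem hwo hp hp5 hγp hconj
  have h9 : π ⁅(⟨x, hxM⟩ : M), ⟨g, hg⟩⁆ = 1 := by
    rw [map_commutatorElement, commutatorElement_eq_one_iff_mul_comm]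
    exact hcom.symm.eq
  rw [key] at h9
  exact h9

end Cfsg.Agent.H792.OT
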