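import Cfsg.Agent.H792.OT.Dict
import Cfsg.Agent.S1938

/-!
# S2539, part 4: the simple socle and the `l`-part of the torus (helper792)

`Y = L T` almost simple with socle `L`, `T ⊴ M < Y`, the `l`-part `T_l` of `T` not cyclic and strongly closed:
`l ∣ |L|`, `O_{l'}(Y) = 1`, `T_l ∩ L ≠ 1`, and no nontrivial element of `T_l` is centralised by `M`.
-/

set_option autoImplicit false

open Subgroup

namespace Cfsg.Agent.H792.OT

universe u

/-- `L` is the simple socle, `Y = L T`, `T ≤ M < Y` -/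
structure Soc {Y : Type u} [Group Y] (T M L : Subgroup Y) : Prop where
  normal : L.Normal
  simple : IsSimpleGroup L
  nonab : ¬ IsMulCommutative L
  cent : ∀ y : Y, (∀ x ∈ L, x * y = y * x) → y = 1
  sup : L ⊔ T = ⊤
  proper : M ≠ ⊤

section
variable {Y : Type u} [Group Y] {T M L : Subgroup Y}

theorem Soc.not_le (S : Soc T M L) (hTM : T ≤ M) : ¬ L ≤ M := fun h => S.proper (top_le_iff.1 (S.sup ▸ sup_le h hTM))

/-- a normal subgroup meets `L` trivially or contains it -/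
theorem Soc.le_or (S : Soc T M L) {N : Subgroup Y} (hN : N.Normal) : L ≤ N ∨ N = ⊥ := by
  have := S.normal
  have := S.simple
  have := hN
  rcases (IsSimpleGroup.eq_bot_or_eq_top_of_normal (N.subgroupOf L) inferInstance) with h | h
  · right
    rw [Subgroup.subgroupOf_eq_bot] at h
    rw [Subgroup.eq_bot_iff_forall]
    intro y hy
    apply S.cent
    intro x hx
    have h1 : x * y * x⁻¹ * y⁻¹ ∈ N ⊓ L := by
      refine ⟨N.mul_mem (hN.conj_mem y hy x) (N.inv_mem hy), ?_⟩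
      have : x * y * x⁻¹ * y⁻¹ = x * (y * x⁻¹ * y⁻¹) := by group
      rw [this]
      exact L.mul_mem hx (S.normal.conj_mem _ (L.inv_mem hx) y)
    have h2 : x * y * x⁻¹ * y⁻¹ = 1 := by
      have := h.le_bot h1
      rwa [Subgroup.mem_bot] at this
    have h3 : x * y * (y * x)⁻¹ = 1 := by rw [mul_inv_rev, ← mul_assoc, h2]
    exact mul_inv_eq_one.1 h3
  · left
    rwa [Subgroup.subgroupOf_eq_top] at h

theorem Soc.ne_bot (S : Soc T M L) : L ≠ ⊥ := by
  rintro rfl
  exact S.nonab ⟨⟨fun a b => Subsingleton.elim _ _⟩⟩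

/-- `M = (M ∩ L) T` -/
theorem Soc.exists_mul (S : Soc T M L) (hTM : T ≤ M) {m : Y} (hm : m ∈ M) :
    ∃ x ∈ L, x ∈ M ∧ ∃ t ∈ T, m = x * t := by
  have := S.normal
  have h : m ∈ (L ⊔ T : Subgroup Y) := by rw [S.sup]; trivial
  obtain ⟨x, hx, t, ht, rfl⟩ := Subgroup.mem_sup_of_normal_left.1 h
  refine ⟨x, hx, ?_, t, ht, rfl⟩
  have := M.mul_mem hm (M.inv_mem (hTM ht))
  simpa using this

variable [Finite Y] {l : ℕ} [Fact l.Prime]

theorem Soc.pPrimeCore_eq_bot (S : Soc T M L) (hl : l ∣ Nat.card L) : Cfsg.pPrimeCore l Y = ⊥ := by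
  rw [Cfsg.pPrimeCore, sSup_eq_bot]
  rintro N ⟨hN, hc⟩
  rcases S.le_or hN with h | h
  · exfalso
    have h1 : l ∣ Nat.card N := hl.trans (Subgroup.card_dvd_of_le h)
    have h2 : l ∣ 1 := hc ▸ Nat.dvd_gcd h1 dvd_rfl
    exact (Fact.out : l.Prime).one_lt.not_ge (Nat.le_of_dvd one_pos h2)
  · exact h

variable {hT : ∀ a ∈ T, ∀ b ∈ T, a * b = b * a} {P : Sylow l Y}

/-- `l` divides `|L|` when the `l`-part of `T` is not cyclic (coprime generation) -/
theorem Dat.dvd_card (D : Dat T M hT l P) (S : Soc T M L) (hc : ¬ IsCyclic (lPart T hT l)) : l ∣ Nat.card L := by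
  by_contra hl
  have := S.normal
  have hcop : (Nat.card (lPart T hT l)).Coprime (Nat.card L) := by
    obtain ⟨n, hn⟩ := IsPGroup.iff_card.1 (isPGroup_lPart (T := T) (hT := hT) (l := l))
    rw [hn]
    exact Nat.Coprime.pow_left _ (((Fact.out : l.Prime).coprime_iff_not_dvd).2 hl)
  have hcomm : IsMulCommutative (lPart T hT l) := ⟨⟨fun a b => Subtype.ext (hT a (lPart_le a.2) b (lPart_le b.2))⟩⟩
  have hgen := Cfsg.Agent.S0058.result (lPart T hT l) L hc (by
    rw [Subgroup.normalizer_eq_top]; exact le_top) hcop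
  apply S.not_le D.TM
  rw [← hgen]
  refine iSup₂_le fun a ha => ?_
  intro y hy
  refine D.cent ha.1 ha.2 ?_
  exact Subgroup.mem_centralizer_singleton_iff.1 hy.2

/-- an element of the `l`-part centralised by `M` is trivial -/
theorem Dat.eq_one_of_cent (D : Dat T M hT l P) (S : Soc T M L) (hl : l ∣ Nat.card L) {t : Y}
    (ht : t ∈ lPart T hT l) (hc : ∀ m ∈ M, m * t = t * m) : t = 1 := by
  by_contra h1
  have hz := Cfsg.Agent.S1938.result P t (D.leP ht) (fun g hg => by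
    have := D.sc t ht h1 g (D.le hg)
    rw [hc g this, mul_inv_cancel_right])
  apply h1
  apply S.cent
  intro x _
  have h2 := hz x
  rw [S.pPrimeCore_eq_bot hl, Subgroup.mem_bot] at h2
  have h3 : x * t * (t * x)⁻¹ = 1 := by rw [mul_inv_rev, ← mul_assoc, h2]
  exact mul_inv_eq_one.1 h3

/-- `T_l ∩ L ≠ 1` -/
theorem Dat.inf_ne_bot (D : Dat T M hT l P) (S : Soc T M L) (hl : l ∣ Nat.card L) : lPart T hT l ⊓ L ≠ ⊥ := by
  intro hb
  obtain ⟨t, ht, ht1⟩ := (lPart T hT l).bot_or_exists_ne_one.resolve_left D.ne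
  refine ht1 (D.eq_one_of_cent S hl ht fun m hm => ?_)
  obtain ⟨x, hx, hxM, s, hs, rfl⟩ := S.exists_mul D.TM hm
  have h1 : x * t * x⁻¹ * t⁻¹ ∈ lPart T hT l ⊓ L := by
    refine ⟨(lPart T hT l).mul_mem (conj_mem_lPart (D.conj x hxM) ht) ((lPart T hT l).inv_mem ht), ?_⟩
    have : x * t * x⁻¹ * t⁻¹ = x * (t * x⁻¹ * t⁻¹) := by group
    rw [this]
    exact L.mul_mem hx (S.normal.conj_mem _ (L.inv_mem hx) t)
  rw [hb, Subgroup.mem_bot] at h1
  have h3 : x * t = t * x := by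
    have : x * t * (t * x)⁻¹ = 1 := by rw [mul_inv_rev, ← mul_assoc, h1]
    exact mul_inv_eq_one.1 this
  rw [mul_assoc, hT s hs t ht.1, ← mul_assoc, h3, mul_assoc]

end

end Cfsg.Agent.H792.OT
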