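import Cfsg.Agent.H792.OT.Flores
import Mathlib.GroupTheory.SpecificGroups.Cyclic
import Mathlib.GroupTheory.PGroup

/-!
# S2539, part 4: general lemmas for the non-Sylow case (helper792)
-/

set_option autoImplicit false

open Subgroup
open scoped Pointwise commutatorElement

namespace Cfsg.Agent.H792.OT

universe u

section
variable {Y : Type u} [Group Y] {T M L : Subgroup Y}

theorem normal_of (hconj : ∀ m ∈ M, ∀ t ∈ T, m * t * m⁻¹ ∈ T) : (T.subgroupOf M).Normal :=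
  ⟨fun t ht m => Subgroup.mem_subgroupOf.2 (hconj m m.2 t (Subgroup.mem_subgroupOf.1 ht))⟩

/-- an element with `x ^ l ∈ T`, `x ^ b ∈ T`, `gcd (l, b) = 1` lies in `T` -/
theorem mem_of_coprime {T : Subgroup Y} {x : Y} {l b : ℕ} (hc : l.Coprime b) (hl : x ^ l ∈ T) (hb : x ^ b ∈ T) :
    x ∈ T := by
  have h : x = (x ^ l) ^ (Nat.gcdA l b) * (x ^ b) ^ (Nat.gcdB l b) := by
    have h1 := Nat.gcd_eq_gcd_ab l b
    rw [Nat.coprime_iff_gcd_eq_one.1 hc] at h1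
    rw [← zpow_natCast, ← zpow_natCast, ← zpow_mul, ← zpow_mul, ← zpow_add, ← h1]
    simp
  rw [h]
  exact T.mul_mem (T.zpow_mem hl _) (T.zpow_mem hb _)

/-- multiplying by an element of `T` does not change the powers modulo `T` -/
theorem mul_pow_mem_iff (hTM : T ≤ M) (hconj : ∀ m ∈ M, ∀ t ∈ T, m * t * m⁻¹ ∈ T) {x t : Y} (hx : x ∈ M) (ht : t ∈ T)
    (n : ℕ) : (x * t) ^ n ∈ T ↔ x ^ n ∈ T := by
  have hN := normal_of hconj
  have key : ∀ y : M, ((y : Y) ∈ T ↔ (QuotientGroup.mk' (T.subgroupOf M)) y = 1) := fun y =>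
    ((QuotientGroup.eq_one_iff (N := T.subgroupOf M) y).trans Subgroup.mem_subgroupOf).symm
  have h1 := key ((⟨x, hx⟩ * ⟨t, hTM ht⟩) ^ n)
  have h2 := key (⟨x, hx⟩ ^ n)
  have h3 : (QuotientGroup.mk' (T.subgroupOf M)) ((⟨x, hx⟩ * ⟨t, hTM ht⟩) ^ n) =
      (QuotientGroup.mk' (T.subgroupOf M)) (⟨x, hx⟩ ^ n) := by
    rw [map_pow, map_mul, (key ⟨t, hTM ht⟩).1 ht, mul_one, map_pow]
  rw [h3, ← h2] at h1
  simpa using h1

variable {l : ℕ} {hT : ∀ a ∈ T, ∀ b ∈ T, a * b = b * a}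

/-- an `l`-element of `P ∩ L` outside `T` with `l`-th power in `T` -/
theorem Dat.exists_x [Finite Y] [Fact l.Prime] {P : Sylow l Y} (D : Dat T M hT l P) (S : Soc T M L)
    (hns : ∃ m ∈ M, m ∉ T ∧ m ^ l ∈ T) : ∃ x ∈ (P : Subgroup Y), x ∈ L ∧ x ∉ T ∧ x ^ l ∈ T := by
  have hl := (Fact.out : l.Prime)
  obtain ⟨m, hm, hmT, hml⟩ := hns
  obtain ⟨x₀, hx₀L, hx₀M, t, ht, rfl⟩ := S.exists_mul D.TM hm
  have hx₀T : x₀ ∉ T := fun h => hmT (T.mul_mem h ht)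
  have hx₀l : x₀ ^ l ∈ T := (mul_pow_mem_iff D.TM D.conj hx₀M ht l).1 hml
  -- the `l`-part
  have hn0 : orderOf x₀ ≠ 0 := (orderOf_pos x₀).ne'
  obtain ⟨a, b, hb, hab⟩ := Nat.exists_eq_pow_mul_and_not_dvd hn0 l hl.ne_one
  have hcop : l.Coprime b := (hl.coprime_iff_not_dvd).2 hb
  have hx₁T : x₀ ^ b ∉ T := fun h => hx₀T (mem_of_coprime hcop hx₀l h)
  have hx₁l : (x₀ ^ b) ^ l ∈ T := by rw [← pow_mul, mul_comm, pow_mul]; exact T.pow_mem hx₀l b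
  have hx₁p : (x₀ ^ b) ^ l ^ a = 1 := by rw [← pow_mul, mul_comm, ← hab, pow_orderOf_eq_one]
  have hx₁M : x₀ ^ b ∈ M := M.pow_mem hx₀M b
  -- conjugate into `P`
  have hpg : IsPGroup l (zpowers (⟨x₀ ^ b, hx₁M⟩ : M)) := by
    rintro ⟨_, k, rfl⟩
    refine ⟨a, Subtype.ext ?_⟩
    change ((⟨x₀ ^ b, hx₁M⟩ : M) ^ k) ^ l ^ a = 1
    rw [← zpow_natCast, ← zpow_mul, mul_comm, zpow_mul, zpow_natCast]
    have : (⟨x₀ ^ b, hx₁M⟩ : M) ^ l ^ a = 1 := Subtype.ext hx₁p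
    rw [this, one_zpow]
  obtain ⟨R, hR⟩ := hpg.exists_le_sylow
  obtain ⟨g, hg⟩ := MulAction.exists_smul_eq M R (P.subtype D.le)
  have hmem : (⟨x₀ ^ b, hx₁M⟩ : M) ∈ (R : Subgroup M) := hR (mem_zpowers _)
  have hmem2 : g * ⟨x₀ ^ b, hx₁M⟩ * g⁻¹ ∈ (P.subtype D.le : Subgroup M) := by
    rw [← hg, Sylow.coe_subgroup_smul]
    exact Subgroup.smul_mem_pointwise_smul _ (MulAut.conj g) _ hmem
  refine ⟨(g : Y) * x₀ ^ b * (g : Y)⁻¹, hmem2, S.normal.conj_mem _ (L.pow_mem hx₀L b) _, ?_, ?_⟩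
  · intro h
    apply hx₁T
    have := D.conj _ (M.inv_mem g.2) _ h
    have h3 : (g : Y)⁻¹ * ((g : Y) * x₀ ^ b * (g : Y)⁻¹) * (g : Y)⁻¹⁻¹ = x₀ ^ b := by group
    rwa [h3] at this
  · rw [conj_pow]
    exact D.conj _ g.2 _ hx₁l

/-- `[t, m] ∈ T ∩ L` for `m ∈ M ∩ L` -/
theorem comm_mem (hTM : T ≤ M) (hconj : ∀ m ∈ M, ∀ t ∈ T, m * t * m⁻¹ ∈ T) (hL : L.Normal) {t m : Y} (ht : t ∈ T)
    (hm : m ∈ M) (hmL : m ∈ L) : ⁅t, m⁆ ∈ T ∧ ⁅t, m⁆ ∈ L := by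
  constructor
  · rw [commutatorElement_def, mul_assoc, mul_assoc, ← mul_assoc m]
    exact T.mul_mem ht (hconj m hm _ (T.inv_mem ht))
  · rw [commutatorElement_def]
    exact L.mul_mem (hL.conj_mem m hmL t) (L.inv_mem hmL)

/-- powers of commutators of an abelian normal subgroup -/
theorem comm_pow (hT : ∀ a ∈ T, ∀ b ∈ T, a * b = b * a) (hconj : ∀ m ∈ M, ∀ t ∈ T, m * t * m⁻¹ ∈ T) {t m : Y}
    (ht : t ∈ T) (hm : m ∈ M) (n : ℕ) : ⁅t, m⁆ ^ n = ⁅t ^ n, m⁆ := by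
  have h : ∀ k : ℕ, ⁅t ^ k, m⁆ = t ^ k * (m * t⁻¹ * m⁻¹) ^ k := by
    intro k
    rw [commutatorElement_def, conj_pow, inv_pow, mul_assoc, mul_assoc, ← mul_assoc m]
  have h1 : ⁅t, m⁆ = t * (m * t⁻¹ * m⁻¹) := by
    rw [commutatorElement_def, mul_assoc, mul_assoc, ← mul_assoc m]
  have hc : Commute t (m * t⁻¹ * m⁻¹) := hT t ht _ (hconj m hm _ (T.inv_mem ht))
  rw [h n, h1, hc.mul_pow]

/-- the elements of `T` with `t ^ s = 1` -/
def tors (T : Subgroup Y) (hT : ∀ a ∈ T, ∀ b ∈ T, a * b = b * a) (s : ℕ) : Subgroup Y where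
  carrier := {t | t ∈ T ∧ t ^ s = 1}
  mul_mem' := by
    rintro a b ⟨ha, ha'⟩ ⟨hb, hb'⟩
    refine ⟨T.mul_mem ha hb, ?_⟩
    have hc : Commute a b := hT a ha b hb
    rw [hc.mul_pow, ha', hb', one_mul]
  one_mem' := ⟨T.one_mem, one_pow _⟩
  inv_mem' := by
    rintro a ⟨ha, ha'⟩
    exact ⟨T.inv_mem ha, by rw [inv_pow, ha', inv_one]⟩

theorem mem_tors {s : ℕ} {t : Y} : t ∈ tors T hT s ↔ t ∈ T ∧ t ^ s = 1 := Iff.rfl

theorem isPGroup_tors {s : ℕ} : IsPGroup s (tors T hT s) := fun x => ⟨1, by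
  rw [pow_one]
  exact Subtype.ext x.2.2⟩

theorem tors_le {s : ℕ} : tors T hT s ≤ T := fun _ h => h.1

/-- `s ^ 3` divides the order of a subgroup containing the `s`-torsion if it has at least `s ^ 3` elements -/
theorem cube_dvd [Finite Y] {s : ℕ} (hs : s.Prime) (h : s ^ 3 ≤ Nat.card (tors T hT s)) {H : Subgroup Y}
    (hH : tors T hT s ≤ H) : s ^ 3 ∣ Nat.card H := by
  have : Fact s.Prime := ⟨hs⟩
  obtain ⟨n, hn⟩ := IsPGroup.iff_card.1 (isPGroup_tors (T := T) (hT := hT) (s := s))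
  rw [hn] at h
  have h1 : 3 ≤ n := (Nat.pow_le_pow_iff_right hs.one_lt).1 h
  exact ((pow_dvd_pow s h1).trans (dvd_of_eq hn.symm)).trans (Subgroup.card_dvd_of_le hH)

/-- a subgroup with at least `s ^ 2` elements `x ^ s = 1` is not cyclic -/
theorem not_cyclic_of [Finite Y] {s : ℕ} (hs : s.Prime) (h : s ^ 2 ≤ Nat.card (tors T hT s)) {H : Subgroup Y}
    (hH : tors T hT s ≤ H) : ¬ IsCyclic H := by
  intro hc
  have hc1 : IsCyclic (tors T hT s) := by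
    have := isCyclic_of_injective (Subgroup.inclusion hH) (Subgroup.inclusion_injective hH)
    exact this
  obtain ⟨g, hg⟩ := hc1.exists_generator
  have h1 : Nat.card (tors T hT s) = orderOf g := (orderOf_eq_card_of_forall_mem_zpowers hg).symm
  have h2 : orderOf g ∣ s := orderOf_dvd_of_pow_eq_one (Subtype.ext g.2.2)
  have h3 := Nat.le_of_dvd hs.pos h2
  rw [h1] at h
  have h4 : s ^ 2 ≤ s := h.trans h3
  have h5 := hs.one_lt
  nlinarith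

end

end Cfsg.Agent.H792.OT
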